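import Cfsg.Agent.H15.OND
set_option autoImplicit false
set_option maxRecDepth 100000

namespace Cfsg.Agent.H15.ON
open Cfsg.Agent.H15 Cfsg.Agent.H14

theorem hperm_f1_62000 : RAll (permAt ONa.ap D.inv 122760 D.L) 62000 70000 := RAll.of (by decide +kernel)
theorem hperm_f1_70000 : RAll (permAt ONa.ap D.inv 122760 D.L) 70000 78000 := RAll.of (by decide +kernel)
theorem hperm_f1_78000 : RAll (permAt ONa.ap D.inv 122760 D.L) 78000 86000 := RAll.of (by decide +kernel)
theorem hperm_f1_86000 : RAll (permAt ONa.ap D.inv 122760 D.L) 86000 94000 := RAll.of (by decide +kernel)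
theorem hperm_f1_94000 : RAll (permAt ONa.ap D.inv 122760 D.L) 94000 102000 := RAll.of (by decide +kernel)
theorem hperm_f1_102000 : RAll (permAt ONa.ap D.inv 122760 D.L) 102000 110000 := RAll.of (by decide +kernel)
theorem hperm_f1_110000 : RAll (permAt ONa.ap D.inv 122760 D.L) 110000 118000 := RAll.of (by decide +kernel)
theorem hperm_f1_118000 : RAll (permAt ONa.ap D.inv 122760 D.L) 118000 122760 := RAll.of (by decide +kernel)
theorem hperm_f1 : RAll (permAt ONa.ap D.inv 122760 D.L) 62000 122760 :=
  (RAll.append (RAll.append (RAll.append hperm_f1_62000 hperm_f1_70000) (RAll.append hperm_f1_78000 hperm_f1_86000)) (RAll.append (RAll.append hperm_f1_94000 hperm_f1_102000) (RAll.append hperm_f1_110000 hperm_f1_118000)))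

end Cfsg.Agent.H15.ON
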