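import Cfsg.Agent.H15.OND
set_option autoImplicit false
set_option maxRecDepth 100000

namespace Cfsg.Agent.H15.ON
open Cfsg.Agent.H15 Cfsg.Agent.H14

theorem hrel_f2_32000 : RAll (relsAt ONa.ap D.B) 32000 34000 := RAll.of (by decide +kernel)
theorem hrel_f2_34000 : RAll (relsAt ONa.ap D.B) 34000 36000 := RAll.of (by decide +kernel)
theorem hrel_f2_36000 : RAll (relsAt ONa.ap D.B) 36000 38000 := RAll.of (by decide +kernel)
theorem hrel_f2_38000 : RAll (relsAt ONa.ap D.B) 38000 40000 := RAll.of (by decide +kernel)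
theorem hrel_f2_40000 : RAll (relsAt ONa.ap D.B) 40000 42000 := RAll.of (by decide +kernel)
theorem hrel_f2_42000 : RAll (relsAt ONa.ap D.B) 42000 44000 := RAll.of (by decide +kernel)
theorem hrel_f2_44000 : RAll (relsAt ONa.ap D.B) 44000 46000 := RAll.of (by decide +kernel)
theorem hrel_f2_46000 : RAll (relsAt ONa.ap D.B) 46000 48000 := RAll.of (by decide +kernel)
theorem hrel_f2 : RAll (relsAt ONa.ap D.B) 32000 48000 :=
  (RAll.append (RAll.append (RAll.append hrel_f2_32000 hrel_f2_34000) (RAll.append hrel_f2_36000 hrel_f2_38000)) (RAll.append (RAll.append hrel_f2_40000 hrel_f2_42000) (RAll.append hrel_f2_44000 hrel_f2_46000)))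

end Cfsg.Agent.H15.ON
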