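import Cfsg.Agent.H15.OND
set_option autoImplicit false
set_option maxRecDepth 100000

namespace Cfsg.Agent.H15.ON
open Cfsg.Agent.H15 Cfsg.Agent.H14

theorem hrel_f4_64000 : RAll (relsAt ONa.ap D.B) 64000 66000 := RAll.of (by decide +kernel)
theorem hrel_f4_66000 : RAll (relsAt ONa.ap D.B) 66000 68000 := RAll.of (by decide +kernel)
theorem hrel_f4_68000 : RAll (relsAt ONa.ap D.B) 68000 70000 := RAll.of (by decide +kernel)
theorem hrel_f4_70000 : RAll (relsAt ONa.ap D.B) 70000 72000 := RAll.of (by decide +kernel)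
theorem hrel_f4_72000 : RAll (relsAt ONa.ap D.B) 72000 74000 := RAll.of (by decide +kernel)
theorem hrel_f4_74000 : RAll (relsAt ONa.ap D.B) 74000 76000 := RAll.of (by decide +kernel)
theorem hrel_f4_76000 : RAll (relsAt ONa.ap D.B) 76000 78000 := RAll.of (by decide +kernel)
theorem hrel_f4_78000 : RAll (relsAt ONa.ap D.B) 78000 80000 := RAll.of (by decide +kernel)
theorem hrel_f4 : RAll (relsAt ONa.ap D.B) 64000 80000 :=
  (RAll.append (RAll.append (RAll.append hrel_f4_64000 hrel_f4_66000) (RAll.append hrel_f4_68000 hrel_f4_70000)) (RAll.append (RAll.append hrel_f4_72000 hrel_f4_74000) (RAll.append hrel_f4_76000 hrel_f4_78000)))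

end Cfsg.Agent.H15.ON
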