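import Cfsg.Agent.H15.OND
set_option autoImplicit false
set_option maxRecDepth 100000

namespace Cfsg.Agent.H15.ON
open Cfsg.Agent.H15 Cfsg.Agent.H14

theorem hrel_f5_80000 : RAll (relsAt ONa.ap D.B) 80000 82000 := RAll.of (by decide +kernel)
theorem hrel_f5_82000 : RAll (relsAt ONa.ap D.B) 82000 84000 := RAll.of (by decide +kernel)
theorem hrel_f5_84000 : RAll (relsAt ONa.ap D.B) 84000 86000 := RAll.of (by decide +kernel)
theorem hrel_f5_86000 : RAll (relsAt ONa.ap D.B) 86000 88000 := RAll.of (by decide +kernel)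
theorem hrel_f5_88000 : RAll (relsAt ONa.ap D.B) 88000 90000 := RAll.of (by decide +kernel)
theorem hrel_f5_90000 : RAll (relsAt ONa.ap D.B) 90000 92000 := RAll.of (by decide +kernel)
theorem hrel_f5_92000 : RAll (relsAt ONa.ap D.B) 92000 94000 := RAll.of (by decide +kernel)
theorem hrel_f5_94000 : RAll (relsAt ONa.ap D.B) 94000 96000 := RAll.of (by decide +kernel)
theorem hrel_f5 : RAll (relsAt ONa.ap D.B) 80000 96000 :=
  (RAll.append (RAll.append (RAll.append hrel_f5_80000 hrel_f5_82000) (RAll.append hrel_f5_84000 hrel_f5_86000)) (RAll.append (RAll.append hrel_f5_88000 hrel_f5_90000) (RAll.append hrel_f5_92000 hrel_f5_94000)))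

end Cfsg.Agent.H15.ON
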