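import Cfsg.Agent.H15.OND
set_option autoImplicit false
set_option maxRecDepth 100000

namespace Cfsg.Agent.H15.ON
open Cfsg.Agent.H15 Cfsg.Agent.H14

theorem hrel_f7_112000 : RAll (relsAt ONa.ap D.B) 112000 114000 := RAll.of (by decide +kernel)
theorem hrel_f7_114000 : RAll (relsAt ONa.ap D.B) 114000 116000 := RAll.of (by decide +kernel)
theorem hrel_f7_116000 : RAll (relsAt ONa.ap D.B) 116000 118000 := RAll.of (by decide +kernel)
theorem hrel_f7_118000 : RAll (relsAt ONa.ap D.B) 118000 120000 := RAll.of (by decide +kernel)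
theorem hrel_f7_120000 : RAll (relsAt ONa.ap D.B) 120000 122000 := RAll.of (by decide +kernel)
theorem hrel_f7_122000 : RAll (relsAt ONa.ap D.B) 122000 122760 := RAll.of (by decide +kernel)
theorem hrel_f7 : RAll (relsAt ONa.ap D.B) 112000 122760 :=
  (RAll.append (RAll.append hrel_f7_112000 (RAll.append hrel_f7_114000 hrel_f7_116000)) (RAll.append hrel_f7_118000 (RAll.append hrel_f7_120000 hrel_f7_122000)))

end Cfsg.Agent.H15.ON
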