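import Cfsg.Agent.H15.OND
set_option autoImplicit false
set_option maxRecDepth 100000

namespace Cfsg.Agent.H15.ON
open Cfsg.Agent.H15 Cfsg.Agent.H14

theorem hperm_f0_0 : RAll (permAt ONa.ap D.inv 122760 D.L) 0 8000 := RAll.of (by decide +kernel)
theorem hperm_f0_8000 : RAll (permAt ONa.ap D.inv 122760 D.L) 8000 16000 := RAll.of (by decide +kernel)
theorem hperm_f0_16000 : RAll (permAt ONa.ap D.inv 122760 D.L) 16000 24000 := RAll.of (by decide +kernel)
theorem hperm_f0_24000 : RAll (permAt ONa.ap D.inv 122760 D.L) 24000 32000 := RAll.of (by decide +kernel)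
theorem hperm_f0_32000 : RAll (permAt ONa.ap D.inv 122760 D.L) 32000 40000 := RAll.of (by decide +kernel)
theorem hperm_f0_40000 : RAll (permAt ONa.ap D.inv 122760 D.L) 40000 48000 := RAll.of (by decide +kernel)
theorem hperm_f0_48000 : RAll (permAt ONa.ap D.inv 122760 D.L) 48000 56000 := RAll.of (by decide +kernel)
theorem hperm_f0_56000 : RAll (permAt ONa.ap D.inv 122760 D.L) 56000 62000 := RAll.of (by decide +kernel)
theorem hperm_f0 : RAll (permAt ONa.ap D.inv 122760 D.L) 0 62000 :=
  (RAll.append (RAll.append (RAll.append hperm_f0_0 hperm_f0_8000) (RAll.append hperm_f0_16000 hperm_f0_24000)) (RAll.append (RAll.append hperm_f0_32000 hperm_f0_40000) (RAll.append hperm_f0_48000 hperm_f0_56000)))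

end Cfsg.Agent.H15.ON
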